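import Groth.Agent.CatLib.Basic
import Mathlib.RingTheory.Ideal.Over
import Mathlib.RingTheory.FiniteType
import Mathlib.RingTheory.AlgebraicIndependent.TranscendenceBasis
import Mathlib.RingTheory.Ideal.Quotient.Operations

/-!
# The dimension formula implies universal catenarity
-/

set_option backward.isDefEq.respectTransparency false
set_option backward.isDefEq.respectTransparency.types false

universe u

namespace DimFormulaLib

theorem trdeg_le_congr {R R' S S' : Type u} [CommRing R] [CommRing R'] [CommRing S] [CommRing S'] [Algebra R S]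
    [Algebra R' S'] [Nontrivial R] [Nontrivial R'] (e : R ≃+* R') (f : S ≃+* S')
    (h : (algebraMap R' S').comp e.toRingHom = f.toRingHom.comp (algebraMap R S)) :
    Algebra.trdeg R S ≤ Algebra.trdeg R' S' := by
  refine ciSup_le' fun i => ?_
  have hi : AlgebraicIndependent R (fun x : i.1 => (x : S)) := i.2
  exact (hi.ringHom_of_comp_eq e.toRingHom f.toRingHom e.surjective f.injective h).cardinalMk_le_trdeg

theorem trdeg_congr {R R' S S' : Type u} [CommRing R] [CommRing R'] [CommRing S] [CommRing S'] [Algebra R S]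
    [Algebra R' S'] [Nontrivial R] [Nontrivial R'] (e : R ≃+* R') (f : S ≃+* S')
    (h : (algebraMap R' S').comp e.toRingHom = f.toRingHom.comp (algebraMap R S)) :
    Algebra.trdeg R S = Algebra.trdeg R' S' := by
  refine le_antisymm (trdeg_le_congr e f h) (trdeg_le_congr e.symm f.symm (RingHom.ext fun r => ?_))
  have h1 := RingHom.congr_fun h (e.symm r)
  simp only [RingHom.comp_apply, RingEquiv.toRingHom_eq_coe, RingEquiv.coe_toRingHom, RingEquiv.apply_symm_apply] at h1 ⊢
  rw [h1, RingEquiv.symm_apply_apply]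

variable {R : Type u} [CommRing R]

/-- The height of `b` in the quotient by `a`. -/
noncomputable def relHeight (a b : Ideal R) : ℕ∞ := (b.map (Ideal.Quotient.mk a)).height

theorem comap_map_mk {a b : Ideal R} (h : a ≤ b) : (b.map (Ideal.Quotient.mk a)).comap (Ideal.Quotient.mk a) = b := by
  rw [Ideal.comap_map_of_surjective _ Ideal.Quotient.mk_surjective, ← RingHom.ker_eq_comap_bot, Ideal.mk_ker,
    sup_eq_left]
  exact h

theorem isPrime_map_mk {a b : Ideal R} [b.IsPrime] (h : a ≤ b) : (b.map (Ideal.Quotient.mk a)).IsPrime :=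
  Ideal.map_isPrime_of_surjective Ideal.Quotient.mk_surjective (by rwa [Ideal.mk_ker])

/-- The prime of the quotient. -/
noncomputable def pr (a : Ideal R) (b : PrimeSpectrum R) (h : a ≤ b.asIdeal) : PrimeSpectrum (R ⧸ a) :=
  ⟨b.asIdeal.map (Ideal.Quotient.mk a), isPrime_map_mk h⟩

theorem pr_covBy {a : Ideal R} {x y : PrimeSpectrum R} (hx : a ≤ x.asIdeal) (hxy : x ⋖ y) :
    pr a x hx ⋖ pr a y (hx.trans hxy.le) := by
  refine ⟨lt_of_le_of_ne (Ideal.map_mono hxy.le) fun e => hxy.ne (PrimeSpectrum.ext ?_), fun z hz1 hz2 => ?_⟩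
  · have h' : x.asIdeal.map (Ideal.Quotient.mk a) = y.asIdeal.map (Ideal.Quotient.mk a) :=
      congrArg PrimeSpectrum.asIdeal e
    rw [← comap_map_mk hx, h', comap_map_mk (hx.trans hxy.le)]
  · let w : PrimeSpectrum R := PrimeSpectrum.comap (Ideal.Quotient.mk a) z
    have hw : ∀ {u v : Ideal (R ⧸ a)}, u < v → u.comap (Ideal.Quotient.mk a) < v.comap (Ideal.Quotient.mk a) :=
      fun {u v} huv => lt_of_le_of_ne (Ideal.comap_mono huv.le) fun e =>
        huv.ne (Ideal.comap_injective_of_surjective _ Ideal.Quotient.mk_surjective e)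
    refine hxy.2 (c := w) ?_ ?_
    · show x.asIdeal < w.asIdeal
      rw [← comap_map_mk hx]; exact hw hz1
    · show w.asIdeal < y.asIdeal
      rw [← comap_map_mk (hx.trans hxy.le)]; exact hw hz2

theorem relHeight_self [Nontrivial R] {a : Ideal R} [a.IsPrime] : relHeight a a = 0 := by
  haveI : IsDomain (R ⧸ a) := Ideal.Quotient.isDomain a
  haveI := isPrime_map_mk (le_refl a)
  rw [relHeight, Ideal.map_quotient_self, Ideal.height_eq_zero_iff]
  exact ⟨⟨Ideal.isPrime_bot, le_rfl⟩, fun p _ _ => bot_le⟩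

theorem relHeight_ne_top [IsNoetherianRing R] (a : Ideal R) {b : Ideal R} [b.IsPrime] (h : a ≤ b) :
    relHeight a b ≠ ⊤ :=
  haveI := isPrime_map_mk h
  Ideal.height_ne_top_of_isPrime

theorem relHeight_covBy [IsNoetherianRing R] (hc : CAlg.IsCatenary R) {a : Ideal R} [a.IsPrime] {x y : PrimeSpectrum R}
    (hx : a ≤ x.asIdeal) (hxy : x ⋖ y) : relHeight a y.asIdeal = relHeight a x.asIdeal + 1 := by
  haveI : IsDomain (R ⧸ a) := Ideal.Quotient.isDomain a
  have h := CatLib.isCatenary_height_covBy (R := R ⧸ a) (CatLib.isCatenary_quotient a hc)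
    (q := pr a x hx) (r := pr a y (hx.trans hxy.le)) (pr_covBy hx hxy)
  simpa only [pr, relHeight] using h

/-- Additivity of heights in a catenary ring. -/
theorem relHeight_add [IsNoetherianRing R] (hc : CAlg.IsCatenary R) {a : Ideal R} [a.IsPrime] {x y : PrimeSpectrum R}
    (hx : a ≤ x.asIdeal) (hxy : x ≤ y) :
    relHeight a y.asIdeal = relHeight a x.asIdeal + relHeight x.asIdeal y.asIdeal := by
  haveI : Nontrivial R := ⟨⟨0, 1, fun h => Ideal.IsPrime.ne_top ‹a.IsPrime› ((Ideal.eq_top_iff_one a).2 (h ▸ zero_mem a))⟩⟩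
  obtain ⟨s, hs1, hs2, hsat, -⟩ := CatLib.exists_saturated hxy
    (CatLib.bounded_of_height CatLib.height_ne_top x y)
  have key : ∀ (b : Ideal R) [b.IsPrime], b ≤ x.asIdeal → ∀ (j : ℕ) (hj : j < s.length + 1),
      relHeight b (s ⟨j, hj⟩).asIdeal = relHeight b x.asIdeal + j := by
    intro b _ hb j
    induction j with
    | zero => intro hj; rw [show s ⟨0, hj⟩ = x from hs1, Nat.cast_zero, add_zero]
    | succ j ih =>
      intro hj
      have h1 : b ≤ (s (Fin.castSucc ⟨j, by omega⟩)).asIdeal := hb.trans (hs1 ▸ s.head_le _ : x ≤ _)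
      rw [show (⟨j + 1, hj⟩ : Fin (s.length + 1)) = Fin.succ ⟨j, by omega⟩ from rfl,
        relHeight_covBy hc h1 (hsat ⟨j, by omega⟩),
        show (Fin.castSucc ⟨j, _⟩ : Fin (s.length + 1)) = ⟨j, by omega⟩ from rfl, ih (by omega), add_assoc, Nat.cast_succ]
  have ha := key a hx s.length (Nat.lt_succ_self _)
  have hxx := key x.asIdeal le_rfl s.length (Nat.lt_succ_self _)
  rw [relHeight_self, zero_add] at hxx
  rw [show s ⟨s.length, _⟩ = y from hs2] at ha hxx
  rw [ha, hxx]

theorem relHeight_eq_one {x y : PrimeSpectrum R} (hxy : x ⋖ y) : relHeight x.asIdeal y.asIdeal = 1 := by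
  haveI : IsDomain (R ⧸ x.asIdeal) := Ideal.Quotient.isDomain _
  have hc := pr_covBy (le_refl x.asIdeal) hxy
  have hbot : (pr x.asIdeal x le_rfl).asIdeal = ⊥ := Ideal.map_quotient_self _
  show (pr x.asIdeal y hxy.le).asIdeal.height = 1
  rw [PrimeSpectrum.height_eq_orderHeight]
  refine le_antisymm (Order.height_le fun t ht => ?_) (Order.one_le_iff_pos.2 (pos_iff_ne_zero.2 fun h0 => ?_))
  · by_contra hlt
    have hlen : 2 ≤ t.length := by
      have : ¬ t.length ≤ 1 := by exact_mod_cast hlt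
      omega
    have h1 : t ⟨0, by omega⟩ < t ⟨1, by omega⟩ := t.strictMono (Nat.zero_lt_one)
    have h2 : t ⟨1, by omega⟩ < pr x.asIdeal y hxy.le := ht ▸ t.strictMono (Fin.mk_lt_mk.2 (by omega) : (⟨1, by omega⟩ : Fin (t.length + 1)) < Fin.last t.length)
    exact hc.2 (lt_of_le_of_lt (show pr x.asIdeal x le_rfl ≤ t ⟨0, by omega⟩ from
      show (pr x.asIdeal x le_rfl).asIdeal ≤ _ by rw [hbot]; exact bot_le) h1) h2
  · exact (Order.height_eq_zero.1 h0).not_lt hc.lt

theorem nat_formula {hx hy tx ty tq a b c : ℕ} (e1 : hx + tx = a + tq) (e2 : hy + ty = b + tq) (e3 : 1 + ty = c + tx)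
    (e4 : b = a + c) : hy = hx + 1 := by omega

variable {A : Type u} [CommRing A] [IsNoetherianRing A]

/-- The dimension formula. -/
def Formula (A : Type u) [CommRing A] : Prop :=
  ∀ (P : Ideal A) [P.IsPrime] (S : Type u) [CommRing S] [IsDomain S] [Algebra (A ⧸ P) S]
    [FaithfulSMul (A ⧸ P) S] [Algebra.FiniteType (A ⧸ P) S] (p : Ideal (A ⧸ P)) [p.IsPrime]
    (q : Ideal S) [q.IsPrime] [q.LiesOver p],
    (q.height : Cardinal.{u}) + Algebra.trdeg ((A ⧸ P) ⧸ p) (S ⧸ q) =
      (p.height : Cardinal.{u}) + Algebra.trdeg (A ⧸ P) S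

theorem exists_nat_formula (hdf : Formula A) (S : Type u) [CommRing S] [Algebra A S] [Algebra.FiniteType A S] :
    ∃ t : PrimeSpectrum S → ℕ, ∀ x y : PrimeSpectrum S, x ≤ y →
      (relHeight x.asIdeal y.asIdeal).toNat + t y = (relHeight (x.asIdeal.under A) (y.asIdeal.under A)).toNat + t x := by
  haveI : IsNoetherianRing S := Algebra.FiniteType.isNoetherianRing A S
  have hfin : ∀ x : PrimeSpectrum S, ∃ n : ℕ, Algebra.trdeg (A ⧸ x.asIdeal.under A) (S ⧸ x.asIdeal) = n := fun x => by
    haveI : IsDomain (A ⧸ x.asIdeal.under A) := Ideal.Quotient.isDomain _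
    haveI : Algebra.FiniteType (A ⧸ x.asIdeal.under A) (S ⧸ x.asIdeal) :=
      Algebra.FiniteType.of_restrictScalars_finiteType A (A ⧸ x.asIdeal.under A) (S ⧸ x.asIdeal)
    exact Cardinal.lt_aleph0.1 trdeg_lt_aleph0_of_finiteType
  choose t ht using hfin
  refine ⟨t, fun x y hxy => ?_⟩
  let P := x.asIdeal.under A
  let Sx := S ⧸ x.asIdeal
  haveI : IsDomain Sx := Ideal.Quotient.isDomain _
  haveI : IsDomain (A ⧸ P) := Ideal.Quotient.isDomain _
  haveI : Algebra.FiniteType (A ⧸ P) Sx := Algebra.FiniteType.of_restrictScalars_finiteType A (A ⧸ P) Sx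
  haveI : FaithfulSMul (A ⧸ P) Sx := (faithfulSMul_iff_algebraMap_injective _ _).2 (by
    rw [injective_iff_map_eq_zero]
    intro z hz
    obtain ⟨z, rfl⟩ := Ideal.Quotient.mk_surjective z
    refine Ideal.Quotient.eq_zero_iff_mem.2 ?_
    show algebraMap A S z ∈ x.asIdeal
    exact Ideal.Quotient.eq_zero_iff_mem.1 hz)
  have hPy : P ≤ y.asIdeal.under A := Ideal.comap_mono hxy
  let p := (y.asIdeal.under A).map (Ideal.Quotient.mk P)
  let q := y.asIdeal.map (Ideal.Quotient.mk x.asIdeal)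
  haveI hp : p.IsPrime := isPrime_map_mk hPy
  haveI hq : q.IsPrime := isPrime_map_mk hxy
  haveI : q.LiesOver p := ⟨by
    refine Ideal.comap_injective_of_surjective (Ideal.Quotient.mk P) Ideal.Quotient.mk_surjective ?_
    rw [comap_map_mk hPy]
    show y.asIdeal.comap (algebraMap A S) = (q.comap (algebraMap (A ⧸ P) Sx)).comap (Ideal.Quotient.mk P)
    rw [Ideal.comap_comap, show (algebraMap (A ⧸ P) Sx).comp (Ideal.Quotient.mk P) =
      (Ideal.Quotient.mk x.asIdeal).comp (algebraMap A S) from RingHom.ext fun _ => rfl, ← Ideal.comap_comap,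
      comap_map_mk hxy]⟩
  have h := hdf P Sx p q
  have e : Algebra.trdeg ((A ⧸ P) ⧸ p) (Sx ⧸ q) = Algebra.trdeg (A ⧸ y.asIdeal.under A) (S ⧸ y.asIdeal) := by
    haveI : Nontrivial ((A ⧸ P) ⧸ p) := Ideal.Quotient.nontrivial_iff.2 hp.ne_top
    haveI : Nontrivial (A ⧸ y.asIdeal.under A) := Ideal.Quotient.nontrivial_iff.2 (y.2.under A).ne_top
    refine trdeg_congr (DoubleQuot.quotQuotEquivQuotOfLE hPy) (DoubleQuot.quotQuotEquivQuotOfLE hxy)
      (RingHom.ext fun z => ?_)
    obtain ⟨z, rfl⟩ := Ideal.Quotient.mk_surjective z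
    obtain ⟨z, rfl⟩ := Ideal.Quotient.mk_surjective z
    rfl
  rw [e, ht, ht] at h
  have hq' : (q.height : Cardinal.{u}) = ((relHeight x.asIdeal y.asIdeal).toNat : Cardinal.{u}) := by
    conv_lhs => rw [show q.height = relHeight x.asIdeal y.asIdeal from rfl, ← ENat.coe_toNat (relHeight_ne_top _ hxy)]
    exact Cardinal.ofENat_nat _
  haveI : (y.asIdeal.under A).IsPrime := y.2.under A
  have hp' : (p.height : Cardinal.{u}) = ((relHeight P (y.asIdeal.under A)).toNat : Cardinal.{u}) := by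
    conv_lhs => rw [show p.height = relHeight P (y.asIdeal.under A) from rfl, ← ENat.coe_toNat (relHeight_ne_top _ hPy)]
    exact Cardinal.ofENat_nat _
  rw [hq', hp', ← Nat.cast_add, ← Nat.cast_add, Nat.cast_inj] at h
  exact h

theorem isUniversallyCatenary_of_formula (hcat : CAlg.IsCatenary A) (hdf : Formula A) :
    CAlg.IsUniversallyCatenary A := by
  refine ⟨inferInstance, fun S _ _ _ => ?_⟩
  haveI : IsNoetherianRing S := Algebra.FiniteType.isNoetherianRing A S
  obtain ⟨t, ht⟩ := exists_nat_formula hdf S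
  refine CatLib.isCatenary_iff_quotient_minimal.2 fun Q hQ => ?_
  haveI := hQ.isPrime
  let Q' : PrimeSpectrum S := ⟨Q, hQ.isPrime⟩
  refine CatLib.isCatenary_of_height fun x' y' hxy' => ?_
  let π := Ideal.Quotient.mk Q
  let x : PrimeSpectrum S := PrimeSpectrum.comap π x'
  let y : PrimeSpectrum S := PrimeSpectrum.comap π y'
  have hQx : ∀ z : PrimeSpectrum (S ⧸ Q), Q ≤ (PrimeSpectrum.comap π z).asIdeal := fun z a ha => by
    show π a ∈ z.asIdeal
    rw [Ideal.Quotient.eq_zero_iff_mem.2 ha]; exact zero_mem _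
  have hxy : x ⋖ y := by
    have hord : (Set.range (CatLib.quotEmb Q)).OrdConnected := by
      rw [CatLib.range_quotEmb]
      exact ⟨fun a ha b _ c hc => fun z hz => hc.1 (ha hz)⟩
    exact CovBy.image (CatLib.quotEmb Q) hxy' hord
  have hh : ∀ z : PrimeSpectrum (S ⧸ Q), z.asIdeal.height = relHeight Q (PrimeSpectrum.comap π z).asIdeal := fun z => by
    show z.asIdeal.height = ((z.asIdeal.comap π).map π).height
    rw [Ideal.map_comap_of_surjective π Ideal.Quotient.mk_surjective]
  have e1 := ht Q' x (hQx x')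
  have e2 := ht Q' y (hQx y')
  have e3 := ht x y hxy.le
  rw [relHeight_eq_one hxy, ENat.toNat_one] at e3
  haveI := Q'.2.under A
  haveI := x.2.under A
  haveI := y.2.under A
  have e4 := relHeight_add hcat (a := Q.under A) (x := ⟨x.asIdeal.under A, inferInstance⟩)
    (y := ⟨y.asIdeal.under A, inferInstance⟩) (Ideal.comap_mono (hQx x')) (Ideal.comap_mono hxy.le)
  have hQy : Q.under A ≤ y.asIdeal.under A := Ideal.comap_mono (hQx y')
  have hQx' : Q.under A ≤ x.asIdeal.under A := Ideal.comap_mono (hQx x')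
  have e4' := congrArg ENat.toNat e4
  rw [ENat.toNat_add (relHeight_ne_top _ hQx') (relHeight_ne_top _ (Ideal.comap_mono hxy.le))] at e4'
  rw [hh, hh, ← ENat.coe_toNat (relHeight_ne_top Q (hQx y')), ← ENat.coe_toNat (relHeight_ne_top Q (hQx x'))]
  exact_mod_cast nat_formula e1 e2 e3 e4'

end DimFormulaLib
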